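import Mathlib.FieldTheory.KummerPolynomial
import Mathlib.FieldTheory.IntermediateField.Adjoin.Basic
import Mathlib.FieldTheory.IntermediateField.Adjoin.Algebra
import Mathlib.LinearAlgebra.Basis.VectorSpace
import Mathlib.FieldTheory.Minpoly.Field
import Mathlib.RingTheory.Algebraic.Integral

/-!
# A sub-`p`-basis after adjoining a `p`-th root (node FT of S14900)
-/

set_option autoImplicit false

open Polynomial

namespace K58.SubPBasis

section

variable {κ κ' : Type*} [Field κ] [Field κ'] [Algebra κ κ'] {p : ℕ}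

/-- `1, ζ, …, ζ^(p-1)` are linearly independent. -/
theorem pow_indep (hp : p.Prime) {ζ : κ'} {g : κ} (hζ : ζ ^ p = algebraMap κ κ' g)
    (hg : ∀ h : κ, h ^ p ≠ g) (c : Fin p → κ)
    (hc : ∑ i, algebraMap κ κ' (c i) * ζ ^ (i : ℕ) = 0) : ∀ i, c i = 0 := by
  have hirr := X_pow_sub_C_irreducible_of_prime hp hg
  have hmin : X ^ p - C g = minpoly κ ζ :=
    minpoly.eq_of_irreducible_of_monic hirr (by simp [hζ]) (monic_X_pow_sub_C g hp.ne_zero)
  have hdeg : (minpoly κ ζ).natDegree = p := by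
    rw [← hmin, natDegree_X_pow_sub_C]
  have hli := linearIndependent_pow (K := κ) ζ
  rw [hdeg] at hli
  rw [Fintype.linearIndependent_iff] at hli
  exact hli c (by simpa only [Algebra.smul_def] using hc)

/-- Elements of `κ[ζ]` are polynomials of degree `< p` in `ζ`. -/
theorem exists_coeff (hp : p.Prime) {ζ : κ'} {g : κ} (hζ : ζ ^ p = algebraMap κ κ' g) {y : κ'}
    (hy : y ∈ Algebra.adjoin κ {ζ}) :
    ∃ c : Fin p → κ, y = ∑ i, algebraMap κ κ' (c i) * ζ ^ (i : ℕ) := by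
  rw [Algebra.adjoin_singleton_eq_range_aeval] at hy
  obtain ⟨f, rfl⟩ := hy
  have hm : (X ^ p - C g).Monic := monic_X_pow_sub_C g hp.ne_zero
  let r := f %ₘ (X ^ p - C g)
  have hr : aeval ζ f = aeval ζ r := by
    have := congrArg (aeval ζ) (modByMonic_add_div f (X ^ p - C g))
    rw [map_add, map_mul] at this
    rw [← this]
    simp [hζ, r]
  have hrd : r.natDegree < p := by
    have h := natDegree_modByMonic_lt f hm (fun h => by
      have := congrArg natDegree h
      rw [natDegree_X_pow_sub_C, natDegree_one] at this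
      exact hp.ne_zero this)
    rwa [natDegree_X_pow_sub_C] at h
  refine ⟨fun i => r.coeff i, ?_⟩
  change aeval ζ f = _
  rw [hr, aeval_eq_sum_range' hrd, Finset.sum_range]
  simp only [Algebra.smul_def]

theorem exists_subfamily (hp : p.Prime)
    (hchar : (p : κ) = 0) {ζ : κ'} {g : κ} (hζ : ζ ^ p = algebraMap κ κ' g)
    (hg : ∀ h : κ, h ^ p ≠ g) {J : Type*} [Fintype J] (θ : J → κ) (j₀ : J) (h1 : θ j₀ = 1)
    (_hind : ∀ h : J → κ, ∑ j, θ j * h j ^ p = 0 → ∀ j, h j = 0)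
    (hspan : ∀ x : κ, ∃ h : J → κ, x = ∑ j, θ j * h j ^ p) :
    ∃ J' : Finset J, j₀ ∈ J' ∧
      (∀ h : J' × Fin p → Algebra.adjoin κ {ζ},
        ∑ i : J' × Fin p, algebraMap κ κ' (θ i.1) * ζ ^ (i.2 : ℕ) * (h i : κ') ^ p = 0 →
          ∀ i, h i = 0) ∧
      (∀ x : κ, ∃ h : J' × Fin p → κ,
        x = ∑ i : J' × Fin p, θ i.1 * g ^ (i.2 : ℕ) * h i ^ p) ∧
      (∀ c : Fin p → κ, ∑ i, algebraMap κ κ' (c i) * ζ ^ (i : ℕ) = 0 → ∀ i, c i = 0) := by
  classical
  haveI : Fact p.Prime := ⟨hp⟩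
  haveI : CharP κ p := (CharP.charP_iff_prime_eq_zero hp).2 hchar
  haveI : CharP κ' p := (CharP.charP_iff_prime_eq_zero hp).2 (by
    have := congrArg (algebraMap κ κ') hchar
    rwa [map_natCast, map_zero] at this)
  have hint : IsIntegral κ ζ := ⟨X ^ p - C g, monic_X_pow_sub_C g hp.ne_zero, by simp [hζ]⟩
  -- the subfield `κ^p(g)`
  let L : IntermediateField κ κ' := IntermediateField.adjoin κ {ζ}
  have hL : ∀ y : κ', y ∈ L ↔ y ∈ Algebra.adjoin κ {ζ} := by
    intro y
    rw [← IntermediateField.adjoin_simple_toSubalgebra_of_isAlgebraic hint.isAlgebraic]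
    rfl
  let M : Subfield κ := (((frobenius κ' p).comp L.val.toRingHom).fieldRange).comap (algebraMap κ κ')
  have hMmem : ∀ m : κ, m ∈ M ↔ ∃ y ∈ Algebra.adjoin κ {ζ}, y ^ p = algebraMap κ κ' m := by
    intro m
    constructor
    · rintro ⟨y, hy⟩
      exact ⟨y, (hL _).1 y.2, hy⟩
    · rintro ⟨y, hy, hym⟩
      exact ⟨⟨y, (hL y).2 hy⟩, hym⟩
  -- the `p`-th power of an element of `κ[ζ]`
  have hpow : ∀ c : Fin p → κ, (∑ i, algebraMap κ κ' (c i) * ζ ^ (i : ℕ)) ^ p =
      algebraMap κ κ' (∑ i : Fin p, g ^ (i : ℕ) * c i ^ p) := by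
    intro c
    rw [← frobenius_def (R := κ') (p := p), map_sum, map_sum]
    refine Finset.sum_congr rfl fun i _ => ?_
    rw [frobenius_def, mul_pow, ← pow_mul, mul_comm (i : ℕ) p, pow_mul, hζ, map_mul, map_pow, map_pow]
    ring
  have hMform : ∀ m ∈ M, ∃ c : Fin p → κ, m = ∑ i : Fin p, g ^ (i : ℕ) * c i ^ p := by
    intro m hm
    obtain ⟨y, hy, hym⟩ := (hMmem m).1 hm
    obtain ⟨c, rfl⟩ := exists_coeff hp hζ hy
    refine ⟨c, (algebraMap κ κ').injective ?_⟩
    rw [← hym, hpow]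
  have hMof : ∀ y ∈ Algebra.adjoin κ {ζ}, ∃ m ∈ M, y ^ p = algebraMap κ κ' m := by
    intro y hy
    obtain ⟨c, hc⟩ := exists_coeff hp hζ hy
    refine ⟨∑ i : Fin p, g ^ (i : ℕ) * c i ^ p, (hMmem _).2 ⟨y, hy, ?_⟩, ?_⟩ <;>
    rw [hc, hpow]
  have hMp : ∀ h : κ, h ^ p ∈ M := fun h =>
    (hMmem _).2 ⟨algebraMap κ κ' h, Subalgebra.algebraMap_mem _ _, (map_pow _ _ _).symm⟩
  -- `θ` spans `κ` over `M`
  have htop : ∀ x : κ, x ∈ Submodule.span M (θ '' Set.univ) := by
    intro x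
    obtain ⟨h, rfl⟩ := hspan x
    refine Submodule.sum_mem _ fun j _ => ?_
    have : θ j * h j ^ p = (⟨h j ^ p, hMp (h j)⟩ : M) • θ j := by
      rw [Subfield.smul_def, smul_eq_mul, mul_comm]
    rw [this]
    exact Submodule.smul_mem _ _ (Submodule.subset_span ⟨j, trivial, rfl⟩)
  have hs : LinearIndepOn M θ {j₀} := by
    rw [linearIndepOn_singleton_iff, h1]
    exact one_ne_zero
  obtain ⟨b, -, hsb, hbspan, hb⟩ := exists_linearIndepOn_extension hs (Set.subset_univ {j₀})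
  let J' : Finset J := b.toFinset
  have hJ' : ∀ j, j ∈ J' ↔ j ∈ b := fun j => Set.mem_toFinset
  have hli : ∀ m : J' → M, ∑ j : J', (m j : κ) * θ j = 0 → ∀ j, m j = 0 := by
    have h2 : LinearIndependent M (fun j : J' => θ j) := by
      have : LinearIndepOn M θ (J' : Set J) := by
        rw [Set.coe_toFinset]
        exact hb
      exact this
    rw [Fintype.linearIndependent_iff] at h2
    intro m hm
    exact h2 m (by simpa only [Subfield.smul_def, smul_eq_mul] using hm)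
  have hsp : ∀ x : κ, ∃ m : J' → M, x = ∑ j : J', (m j : κ) * θ j := by
    intro x
    have h3 : x ∈ Submodule.span M (θ '' b) :=
      (Submodule.span_le.2 hbspan) (htop x)
    have h4 : θ '' b = Set.range (fun j : J' => θ j) := by
      ext y
      constructor
      · rintro ⟨j, hj, rfl⟩
        exact ⟨⟨j, (hJ' j).2 hj⟩, rfl⟩
      · rintro ⟨j, rfl⟩
        exact ⟨j, (hJ' _).1 j.2, rfl⟩
    rw [h4, Submodule.mem_span_range_iff_exists_fun] at h3
    obtain ⟨m, hm⟩ := h3
    exact ⟨m, by rw [← hm]; simp only [Subfield.smul_def, smul_eq_mul]⟩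
  refine ⟨J', (hJ' _).2 (hsb rfl), ?_, ?_, pow_indep hp hζ hg⟩
  · intro h hh
    choose m hmM hm using fun i : J' × Fin p => hMof (h i : κ') (h i).2
    have h5 : ∀ i : Fin p, ∑ j : J', θ j * m (j, i) = 0 := by
      refine pow_indep hp hζ hg (fun i => ∑ j : J', θ j * m (j, i)) ?_
      rw [← hh, Fintype.sum_prod_type_right]
      refine Finset.sum_congr rfl fun i _ => ?_
      rw [map_sum, Finset.sum_mul]
      refine Finset.sum_congr rfl fun j _ => ?_
      rw [hm, map_mul]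
      ring
    intro i
    have h6 := hli (fun j => ⟨m (j, i.2), hmM _⟩) (by
      rw [← h5 i.2]
      exact Finset.sum_congr rfl fun j _ => mul_comm _ _) i.1
    have h7 : m i = 0 := congrArg Subtype.val h6
    have h8 : (h i : κ') ^ p = 0 := by rw [hm, h7, map_zero]
    exact Subtype.ext (pow_eq_zero_iff hp.ne_zero |>.1 h8)
  · intro x
    obtain ⟨m, rfl⟩ := hsp x
    choose c hc using fun j : J' => hMform (m j) (m j).2
    refine ⟨fun i => c i.1 i.2, ?_⟩
    rw [Fintype.sum_prod_type]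
    refine Finset.sum_congr rfl fun j _ => ?_
    rw [hc j, Finset.sum_mul]
    exact Finset.sum_congr rfl fun i _ => by ring

end

end K58.SubPBasis
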